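import Mathlib
import Groth.Prelude.Def_CxOX
import Groth.Agent.Lib.Helper5.RGam.GammaZPlus
import Groth.Agent.Lib.Helper3.KInjD
import Groth.Agent.Lib.Helper3.KInjDer
import Groth.Agent.Lib.Helper5.BvdB.Adj
import Groth.Agent.Lib.Helper5.BvdB.ShriekRes

/-!
# The triangle `RΓ_Z K ⟶ K ⟶ Rj_* j^* K` for the unbounded `RΓ_Z` (helper5)
-/
set_option autoImplicit false
set_option linter.unusedSectionVars false
set_option linter.unusedVariables false
universe u
open CategoryTheory CategoryTheory.Limits AlgebraicGeometry Pretriangulated TopologicalSpace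
open scoped ZeroObject
attribute [local instance] HasDerivedCategory.standard

namespace Groth.Agent.Lib.Helper5.CxTri

open Groth.Agent.Lib.Helper5.MV Groth.Agent.Lib.Helper5.QC Groth.Agent.Helper3.KInjDer
  Groth.Agent.Lib.Helper5.GammaZ Groth.Agent.Lib.Helper5.BvdB

variable {X : Scheme.{u}} (U : X.Opens)

section Unit

variable [CxOX.HasRgammaZ U.ι]

/-- the unit of the total right derived functor `RΓ_Z` -/
noncomputable abbrev rgUnit : CxOX.gammaZKh U.ι ⟶ DerivedCategory.Qh ⋙ CxOX.RgammaZ U.ι :=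
  (CxOX.gammaZKh U.ι).totalRightDerivedUnit DerivedCategory.Qh
    (HomotopyCategory.quasiIso X.Modules (ComplexShape.up ℤ))

instance isIso_rgUnit_app (I : CochainComplex X.Modules ℤ) [I.IsKInjective] :
    IsIso ((rgUnit U).app ((HomotopyCategory.quotient X.Modules (ComplexShape.up ℤ)).obj I)) :=
  isIso_unit_app (CxOX.gammaZKh U.ι) (rgUnit U) I

/-- `RΓ_Z` is computed by `Γ_Z` on K-injective complexes -/
noncomputable def rgammaObjIso (I : CochainComplex X.Modules ℤ) [I.IsKInjective] :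
    (CxOX.RgammaZ U.ι).obj (DerivedCategory.Q.obj I) ≅
      DerivedCategory.Q.obj ((ΓZC U).obj I) :=
  (asIso ((rgUnit U).app
    ((HomotopyCategory.quotient X.Modules (ComplexShape.up ℤ)).obj I))).symm

/-- compatibility of the computation of `RΓ_Z` with the canonical map to the identity -/
theorem rgammaObjIso_inv_toId (I : CochainComplex X.Modules ℤ) [I.IsKInjective] :
    (rgammaObjIso U I).inv ≫ (CxOX.RgammaZToId U.ι).app (DerivedCategory.Q.obj I) =
      DerivedCategory.Q.map (ιZC U I) := by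
  have h := Functor.rightDerived_fac_app (CxOX.RgammaZ U.ι) (rgUnit U)
    (HomotopyCategory.quasiIso X.Modules (ComplexShape.up ℤ)) (𝟭 (DCoh.D X))
    (CxOX.gammaZKhι U.ι ≫ (Functor.rightUnitor _).inv)
    ((HomotopyCategory.quotient X.Modules (ComplexShape.up ℤ)).obj I)
  refine h.trans ?_
  have e1 : ((DCoh.gammaZ U.ι).mapHomotopyCategoryFactors (ComplexShape.up ℤ)).hom.app I = 𝟙 _ :=
    Quotient.lift.isLift_hom _ _ _ I
  simp [CxOX.gammaZKhι, ιZC, Quotient.natTransLift, CxOX.gammaZι, gammaZι]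
  erw [e1, CategoryTheory.Functor.map_id, Category.id_comp, Category.comp_id]

/-- `RΓ_Z K` vanishes on `U` -/
theorem vanishOn_rgamma (K : DCoh.D X) : VanishOn ((CxOX.RgammaZ U.ι).obj K) (U : Set X) := by
  obtain ⟨I, f, hI, hf, -, hinj⟩ :=
    Groth.Agent.Helper3.KInjD.exists_kInjective_resolution (DerivedCategory.Q.objPreimage K)
  haveI := hI
  haveI : IsIso (DerivedCategory.Q.map f) := by
    rw [DerivedCategory.isIso_Q_map_iff_quasiIso]
    exact hf
  let eK : K ≅ DerivedCategory.Q.obj I :=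
    (DerivedCategory.Q.objObjPreimageIso K).symm ≪≫ asIso (DerivedCategory.Q.map f)
  refine VanishOn.of_iso ((CxOX.RgammaZ U.ι).mapIso eK ≪≫ rgammaObjIso U I).symm ?_
  intro x hx n
  by_contra hns
  exact support_HD_ΓZC U I n hns hx

variable [DCoh.HasRpush U.ι]

/-- **the triangle `RΓ_Z K ⟶ K ⟶ Rj_* (K|_U)`** (with some second and third maps) -/
theorem exists_triangle (K : DCoh.D X) :
    ∃ (g : K ⟶ (DCoh.Rpush U.ι).obj ((DCoh.restrictD U.ι).obj K))
      (δ : (DCoh.Rpush U.ι).obj ((DCoh.restrictD U.ι).obj K) ⟶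
        ((CxOX.RgammaZ U.ι).obj K)⟦(1 : ℤ)⟧),
      Triangle.mk ((CxOX.RgammaZToId U.ι).app K) g δ ∈ distTriang (DCoh.D X) := by
  obtain ⟨I, f, hI, hf, -, hinj⟩ :=
    Groth.Agent.Helper3.KInjD.exists_kInjective_resolution (DerivedCategory.Q.objPreimage K)
  haveI := hI
  haveI : IsIso (DerivedCategory.Q.map f) := by
    rw [DerivedCategory.isIso_Q_map_iff_quasiIso]
    exact hf
  let eK : K ≅ DerivedCategory.Q.obj I :=
    (DerivedCategory.Q.objObjPreimageIso K).symm ≪≫ asIso (DerivedCategory.Q.map f)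
  have hS := shortExact_sesZ U I hinj
  have hT := DerivedCategory.triangleOfSES_distinguished hS
  let e3 : DerivedCategory.Q.obj ((GC U).obj I) ≅
      (DCoh.Rpush U.ι).obj ((DCoh.restrictD U.ι).obj K) :=
    DerivedCategory.Q.mapIso
      ((NatIso.mapHomologicalComplex (Scheme.Modules.pushforwardId X) (ComplexShape.up ℤ)).app
        ((GC U).obj I)).symm ≪≫
      vertexIso (𝟙 X) U U.ι (Category.comp_id _).symm I K eK
  let e1 : DerivedCategory.Q.obj ((ΓZC U).obj I) ≅ (CxOX.RgammaZ U.ι).obj K :=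
    (rgammaObjIso U I).symm ≪≫ (CxOX.RgammaZ U.ι).mapIso eK.symm
  let m₁ : DerivedCategory.Q.obj ((ΓZC U).obj I) ⟶ DerivedCategory.Q.obj I :=
    DerivedCategory.Q.map (ιZC U I)
  let m₂ : DerivedCategory.Q.obj I ⟶ DerivedCategory.Q.obj ((GC U).obj I) :=
    DerivedCategory.Q.map ((ηC U).app I)
  let m₃ : DerivedCategory.Q.obj ((GC U).obj I) ⟶
      (DerivedCategory.Q.obj ((ΓZC U).obj I))⟦(1 : ℤ)⟧ := (DerivedCategory.triangleOfSES hS).mor₃
  have hT' : Triangle.mk m₁ m₂ m₃ ∈ distTriang (DCoh.D X) := hT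
  have hcomm : m₁ ≫ eK.inv = e1.hom ≫ (CxOX.RgammaZToId U.ι).app K := by
    change DerivedCategory.Q.map (ιZC U I) ≫ eK.inv =
      ((rgammaObjIso U I).inv ≫ (CxOX.RgammaZ U.ι).map eK.inv) ≫ (CxOX.RgammaZToId U.ι).app K
    rw [Category.assoc, (CxOX.RgammaZToId U.ι).naturality eK.inv, ← Category.assoc,
      rgammaObjIso_inv_toId]
    rfl
  refine ⟨eK.hom ≫ m₂ ≫ e3.hom, e3.inv ≫ m₃ ≫ e1.hom⟦(1 : ℤ)⟧', ?_⟩
  refine isomorphic_distinguished _ hT' _ ?_
  exact Triangle.isoMk _ _ e1.symm eK e3.symm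
    (by
      change (CxOX.RgammaZToId U.ι).app K ≫ eK.hom = e1.inv ≫ m₁
      rw [Iso.eq_inv_comp, ← Category.assoc, ← hcomm, Category.assoc, Iso.inv_hom_id,
        Category.comp_id])
    (by
      change (eK.hom ≫ m₂ ≫ e3.hom) ≫ e3.inv = eK.hom ≫ m₂
      rw [Category.assoc, Category.assoc, Iso.hom_inv_id, Category.comp_id])
    (by
      change (e3.inv ≫ m₃ ≫ e1.hom⟦(1 : ℤ)⟧') ≫ e1.inv⟦(1 : ℤ)⟧' = e3.inv ≫ m₃
      rw [Category.assoc, Category.assoc, ← Functor.map_comp, Iso.hom_inv_id,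
        CategoryTheory.Functor.map_id, Category.comp_id])

end Unit

end Groth.Agent.Lib.Helper5.CxTri
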