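import Mathlib
import Groth.Agent.Lib.Helper5.CxOX.Tri
import Groth.Agent.Lib.Helper5.MV.MVShriekTri
import Groth.Agent.Lib.Helper5.BvdB.Adj2
import Groth.Agent.Lib.Helper5.BvdB.GenSupp
import Groth.Agent.Lib.Helper5.QC.RpushPC

/-!
# Orthogonality calculus for objects of `D(O_X)` with supports (helper5)
-/
set_option autoImplicit false
set_option linter.unusedSectionVars false
set_option linter.unusedVariables false
universe u
open CategoryTheory CategoryTheory.Limits AlgebraicGeometry Pretriangulated TopologicalSpace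
open scoped ZeroObject
attribute [local instance] HasDerivedCategory.standard

namespace Groth.Agent.Lib.Helper5.CxTri

open Groth.Agent.Lib.Helper5.MV Groth.Agent.Lib.Helper5.QC Groth.Agent.Helper3.KInjDer
  Groth.Agent.Lib.Helper5.GammaZ Groth.Agent.Lib.Helper5.BvdB Groth.Agent.Lib.Helper5.MVShriek

section Abstract

variable {C : Type*} [Category C] [Preadditive C] [HasZeroObject C] [HasShift C ℤ]
  [∀ n : ℤ, (shiftFunctor C n).Additive] [Pretriangulated C]

/-- the right orthogonal of a class of objects -/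
def Orth (S : C → Prop) (M : C) : Prop := ∀ N : C, S N → ∀ φ : N ⟶ M, φ = 0

variable {S : C → Prop}

theorem Orth.of_iso {M M' : C} (e : M ≅ M') (h : Orth S M) : Orth S M' := by
  intro N hN φ
  have h1 := h N hN (φ ≫ e.inv)
  have h2 : φ = (φ ≫ e.inv) ≫ e.hom := by simp
  rw [h2, h1, zero_comp]

theorem Orth.shift_neg_one (hS : ∀ N, S N → S (N⟦(1 : ℤ)⟧)) {M : C} (h : Orth S M) :
    Orth S (M⟦(-1 : ℤ)⟧) := by
  intro N hN φ
  let e : (M⟦(-1 : ℤ)⟧)⟦(1 : ℤ)⟧ ≅ M := (shiftEquiv C (1 : ℤ)).counitIso.app M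
  have h1 : φ⟦(1 : ℤ)⟧' ≫ e.hom = 0 := h _ (hS N hN) _
  have h2 : φ⟦(1 : ℤ)⟧' = 0 := by
    have := congrArg (· ≫ e.inv) h1
    simpa using this
  exact (shiftFunctor C (1 : ℤ)).map_injective (h2.trans (Functor.map_zero _ _ _).symm)

theorem Orth.shift_one (hS : ∀ N, S N → S (N⟦(-1 : ℤ)⟧)) {M : C} (h : Orth S M) :
    Orth S (M⟦(1 : ℤ)⟧) := by
  intro N hN φ
  let e : (M⟦(1 : ℤ)⟧)⟦(-1 : ℤ)⟧ ≅ M := (shiftEquiv C (1 : ℤ)).unitIso.symm.app M
  have h1 : φ⟦(-1 : ℤ)⟧' ≫ e.hom = 0 := h _ (hS N hN) _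
  have h2 : φ⟦(-1 : ℤ)⟧' = 0 := by
    have := congrArg (· ≫ e.inv) h1
    simpa using this
  exact (shiftFunctor C (-1 : ℤ)).map_injective (h2.trans (Functor.map_zero _ _ _).symm)

/-- an object which is orthogonal to itself vanishes -/
theorem isZero_of_orth_self {N : C} (hN : S N) (h : Orth S N) : IsZero N :=
  (IsZero.iff_id_eq_zero N).2 (h N hN (𝟙 N))

/-- the third object of a distinguished triangle with orthogonal first and second objects -/
theorem Orth.obj₃ (hS : ∀ N, S N → S (N⟦(-1 : ℤ)⟧)) (T : Triangle C) (hT : T ∈ distTriang C)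
    (h₁ : Orth S T.obj₁) (h₂ : Orth S T.obj₂) : Orth S T.obj₃ := by
  intro N hN φ
  have h3 : φ ≫ T.mor₃ = 0 := (Orth.shift_one hS h₁) N hN _
  obtain ⟨ψ, hψ⟩ := Triangle.coyoneda_exact₃ T hT φ h3
  rw [hψ, h₂ N hN ψ, zero_comp]

/-- **uniqueness of coreflections**: comparison maps between two coreflections are
isomorphisms -/
theorem isIso_of_coreflections (hS : ∀ N, S N → S (N⟦(1 : ℤ)⟧)) {A A' M B B' : C}
    (a : A ⟶ M) (g : M ⟶ B) (δ : B ⟶ A⟦(1 : ℤ)⟧) (hT : Triangle.mk a g δ ∈ distTriang C)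
    (a' : A' ⟶ M) (g' : M ⟶ B') (δ' : B' ⟶ A'⟦(1 : ℤ)⟧)
    (hT' : Triangle.mk a' g' δ' ∈ distTriang C)
    (hA : S A) (hA' : S A') (hB : Orth S B) (hB' : Orth S B')
    (α : A' ⟶ A) (hα : α ≫ a = a') : IsIso α := by
  have h0 : a ≫ g' = 0 := hB' A hA _
  obtain ⟨β, hβ⟩ : ∃ β : A ⟶ A', a = β ≫ a' := Triangle.coyoneda_exact₂ _ hT' a h0
  have inj : ∀ x : A ⟶ A, x ≫ a = 0 → x = 0 := by
    intro x hx
    obtain ⟨w, hw⟩ := Triangle.coyoneda_exact₂ _ (inv_rot_of_distTriang _ hT) x hx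
    have hw0 : w = 0 := (Orth.shift_neg_one hS hB) A hA w
    rw [hw, hw0]
    exact zero_comp
  have inj' : ∀ x : A' ⟶ A', x ≫ a' = 0 → x = 0 := by
    intro x hx
    obtain ⟨w, hw⟩ := Triangle.coyoneda_exact₂ _ (inv_rot_of_distTriang _ hT') x hx
    have hw0 : w = 0 := (Orth.shift_neg_one hS hB') A' hA' w
    rw [hw, hw0]
    exact zero_comp
  have h1 : β ≫ α = 𝟙 A := by
    have := inj (β ≫ α - 𝟙 A) (by
      rw [Preadditive.sub_comp, Category.assoc, hα, ← hβ, Category.id_comp, sub_self])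
    exact sub_eq_zero.1 this
  have h2 : α ≫ β = 𝟙 A' := by
    have := inj' (α ≫ β - 𝟙 A') (by
      rw [Preadditive.sub_comp, Category.assoc, ← hβ, hα, Category.id_comp, sub_self])
    exact sub_eq_zero.1 this
  exact ⟨β, h2, h1⟩

/-- existence of the comparison map between coreflections -/
theorem exists_of_coreflections {A A' M B : C}
    (a : A ⟶ M) (g : M ⟶ B) (δ : B ⟶ A⟦(1 : ℤ)⟧) (hT : Triangle.mk a g δ ∈ distTriang C)
    (a' : A' ⟶ M) (hA' : S A') (hB : Orth S B) : ∃ α : A' ⟶ A, α ≫ a = a' := by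
  have h0 : a' ≫ g = 0 := hB A' hA' _
  obtain ⟨α, hα⟩ := Triangle.coyoneda_exact₂ _ hT a' h0
  exact ⟨α, hα.symm⟩

end Abstract

section Geometric

variable {X : Scheme.{u}}

attribute [local instance] preservesFiniteLimits_extZero

/-- vanishing on a set is stable under shifts -/
theorem vanishOn_shift {K : DCoh.D X} {V : Set X} (h : VanishOn K V) (n : ℤ) :
    VanishOn (K⟦n⟧) V := fun x hx i =>
  GammaZ.subsingleton_stalk_of_iso (hdShiftIso K n i (n + i) rfl) x (h x hx (n + i))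

/-- objects pushed forward from an open are right orthogonal to objects vanishing on it -/
theorem orth_rpush {U : Scheme.{u}} (j : U ⟶ X) [IsOpenImmersion j] [DCoh.HasRpush j]
    (B : DCoh.D U) :
    Orth (fun N : DCoh.D X => VanishOn N (Set.range j.base)) ((DCoh.Rpush j).obj B) := by
  intro N hN φ
  have hz : IsZero ((DCoh.restrictD j).obj N) :=
    isZero_restrictD_of_vanishOn j N _ hN subset_rfl
  have hsub : Subsingleton (N ⟶ (DCoh.Rpush j).obj B) :=
    ((resAdj j).homEquiv N B).subsingleton_congr.1 ⟨fun a b => hz.eq_of_src a b⟩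
  exact Subsingleton.elim _ _

/-- **maps between objects with disjoint supports vanish** -/
theorem hom_eq_zero_of_cover (V W : X.Opens) (hVW : V ⊔ W = ⊤) (N M : DCoh.D X)
    (hN : VanishOn N (V : Set X)) (hM : VanishOn M (W : Set X)) (φ : N ⟶ M) : φ = 0 := by
  obtain ⟨a, b, c, hT⟩ := exists_shriek_triangle V W hVW N
  have hNV : IsZero ((DCoh.restrictD V.ι).obj N) := (isZero_restrictD_iff_vanishOn V N).2 hN
  have hNVW : IsZero ((DCoh.restrictD (V ⊓ W).ι).obj N) :=
    (isZero_restrictD_iff_vanishOn (V ⊓ W) N).2 (hN.mono (fun x hx => hx.1))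
  have hMW : IsZero ((DCoh.restrictD W.ι).obj M) := (isZero_restrictD_iff_vanishOn W M).2 hM
  have h1 : IsZero ((CxOX.extZeroD (V ⊓ W).ι).obj ((DCoh.restrictD (V ⊓ W).ι).obj N)) :=
    (CxOX.extZeroD (V ⊓ W).ι).map_isZero hNVW
  haveI : IsIso b := (Triangle.isZero₁_iff_isIso₂ _ hT).1 h1
  have h2 : b ≫ φ = 0 := by
    apply biprod.hom_ext'
    · exact ((CxOX.extZeroD V.ι).map_isZero hNV).eq_of_src _ _
    · rw [comp_zero]
      have hsub : Subsingleton ((CxOX.extZeroD W.ι).obj ((DCoh.restrictD W.ι).obj N) ⟶ M) :=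
        ((shriekAdj W).homEquiv _ M).subsingleton_congr.2 ⟨fun a b => hMW.eq_of_tgt a b⟩
      exact Subsingleton.elim _ _
  have h3 : φ = inv b ≫ b ≫ φ := by simp
  rw [h3, h2, comp_zero]

/-- **criterion for the unit of `j^* ⊣ Rj_*` to be an isomorphism** -/
theorem isIso_unit_of_orth {U : Scheme.{u}} (j : U ⟶ X) [IsOpenImmersion j] [DCoh.HasRpush j]
    (adj : DCoh.restrictD j ⊣ DCoh.Rpush j) (K : DCoh.D X)
    (hK : Orth (fun N : DCoh.D X => VanishOn N (Set.range j.base)) (K⟦(1 : ℤ)⟧)) :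
    IsIso (adj.unit.app K) := by
  obtain ⟨C, π, δ, hT⟩ := distinguished_cocone_triangle (adj.unit.app K)
  -- the counit is an isomorphism
  haveI : IsIso adj.counit := by
    let ff := (resAdj j).fullyFaithfulROfIsIsoCounit
    haveI := ff.full
    haveI := ff.faithful
    infer_instance
  haveI : IsIso ((DCoh.restrictD j).map (adj.unit.app K)) := by
    have h := adj.left_triangle_components K
    haveI : IsIso (adj.counit.app ((DCoh.restrictD j).obj K)) := inferInstance
    have h2 : (DCoh.restrictD j).map (adj.unit.app K) =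
        inv (adj.counit.app ((DCoh.restrictD j).obj K)) := IsIso.eq_inv_of_inv_hom_id h
    rw [h2]
    infer_instance
  -- the cone vanishes on the image of `j`
  have hT' := (DCoh.restrictD j).map_distinguished _ hT
  have hz : IsZero ((DCoh.restrictD j).obj C) :=
    (Triangle.isZero₃_iff_isIso₁ _ hT').2 (by
      change IsIso ((DCoh.restrictD j).map (adj.unit.app K))
      infer_instance)
  have hC : VanishOn C (Set.range j.base) := by
    have h1 : VanishOn ((DCoh.restrictD j).obj C) Set.univ := vanishOn_of_isZero hz _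
    rw [vanishOn_restrictD_iff] at h1
    simpa using h1
  have hδ : δ = 0 := hK C hC δ
  obtain ⟨σ, hσ⟩ := Triangle.coyoneda_exact₃ _ hT (𝟙 C) (by
    change 𝟙 C ≫ δ = 0
    rw [hδ, comp_zero])
  have hσ0 : σ = 0 := orth_rpush j _ C hC σ
  have hC0 : IsZero C := by
    rw [IsZero.iff_id_eq_zero, hσ, hσ0]
    exact zero_comp
  exact (Triangle.isZero₃_iff_isIso₁ _ hT).1 hC0

end Geometric

end Groth.Agent.Lib.Helper5.CxTri
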