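import Mathlib
import Groth.Agent.Lib.Helper5.CxOX.Orth
import Groth.Agent.Lib.Helper5.Stalk.RpushRes
import Groth.Agent.Lib.Helper5.MV.RpushTri
import Groth.Agent.Lib.Helper5.Perf.HomVanish

/-!
# `Rj_*` and objects with supports: open immersions into a compactification (helper5)
-/
set_option autoImplicit false
set_option linter.unusedSectionVars false
set_option linter.unusedVariables false
universe u
open CategoryTheory CategoryTheory.Limits AlgebraicGeometry Pretriangulated TopologicalSpace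
open scoped ZeroObject
attribute [local instance] HasDerivedCategory.standard

namespace Groth.Agent.Lib.Helper5.CxTri

open Groth.Agent.Lib.Helper5.MV Groth.Agent.Lib.Helper5.QC Groth.Agent.Helper3.KInjDer
  Groth.Agent.Lib.Helper5.GammaZ Groth.Agent.Lib.Helper5.BvdB Groth.Agent.Lib.Helper5.MVShriek
  Groth.Agent.Lib.Helper5.RpushRes Groth.Agent.Lib.Helper5.HomVanish

variable {X : Scheme.{u}}

/-- supports in the complement of the image of `j`, in terms of stalks -/
theorem isSuppD_iff_vanishOn {U : Scheme.{u}} (j : U ⟶ X) [IsOpenImmersion j] (K : DCoh.D X) :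
    CxOX.IsSuppD j K ↔ VanishOn K (Set.range j.base) := by
  constructor
  · intro h x hx n
    by_contra hns
    exact h n hns hx
  · intro h n x hx hxr
    exact hx (h x hxr n)

theorem range_opens_ι (U : X.Opens) : Set.range U.ι.base = (U : Set X) := by
  simp

/-- objects pushed forward from an open subscheme are right orthogonal to objects vanishing
on it -/
theorem orth_rpush_opens (U : X.Opens) [DCoh.HasRpush U.ι] (B : DCoh.D (U : Scheme.{u})) :
    Orth (fun N : DCoh.D X => VanishOn N (U : Set X)) ((DCoh.Rpush U.ι).obj B) := by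
  intro N hN φ
  exact orth_rpush U.ι B N (by rw [range_opens_ι]; exact hN) φ

/-- the counit of any adjunction `j^* ⊣ Rj_*` is an isomorphism -/
theorem isIso_counit_of_adj' {U : Scheme.{u}} (j : U ⟶ X) [IsOpenImmersion j] [DCoh.HasRpush j]
    (adj : DCoh.restrictD j ⊣ DCoh.Rpush j) : IsIso adj.counit := by
  let ff := (resAdj j).fullyFaithfulROfIsIsoCounit
  haveI := ff.full
  haveI := ff.faithful
  infer_instance

/-- `RΓ_Z M` vanishes when `M` is right orthogonal to the objects supported in `Z` -/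
theorem isZero_rgamma_of_orth (T : X.Opens) [CxOX.HasRgammaZ T.ι] (M : DCoh.D X)
    (hM : Orth (fun N : DCoh.D X => VanishOn N (T : Set X)) M) :
    IsZero ((CxOX.RgammaZ T.ι).obj M) := by
  haveI : DCoh.HasRpush T.ι := hasRightDerivedFunctor (DCoh.pushKh T.ι)
  obtain ⟨g, δ, hT⟩ := exists_triangle T M
  have hN := vanishOn_rgamma T M
  have h0 : (CxOX.RgammaZToId T.ι).app M = 0 := hM _ hN _
  obtain ⟨w, hw⟩ := Triangle.coyoneda_exact₂ _ (inv_rot_of_distTriang _ hT)
    (𝟙 ((CxOX.RgammaZ T.ι).obj M)) (by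
      change 𝟙 _ ≫ (CxOX.RgammaZToId T.ι).app M = 0
      rw [h0, comp_zero])
  have hw0 : w = 0 :=
    (Orth.shift_neg_one (S := fun N : DCoh.D X => VanishOn N (T : Set X))
      (fun N hN => vanishOn_shift hN 1) (orth_rpush_opens T _)) _ hN w
  rw [IsZero.iff_id_eq_zero, hw, hw0]
  exact zero_comp

/-- objects with vanishing `RΓ_Z` are right orthogonal to the objects supported in `Z` -/
theorem orth_of_isZero_rgamma (T : X.Opens) [CxOX.HasRgammaZ T.ι] (M : DCoh.D X)
    (hM : IsZero ((CxOX.RgammaZ T.ι).obj M)) :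
    Orth (fun N : DCoh.D X => VanishOn N (T : Set X)) M := by
  haveI : DCoh.HasRpush T.ι := hasRightDerivedFunctor (DCoh.pushKh T.ι)
  obtain ⟨g, δ, hT⟩ := exists_triangle T M
  haveI : IsIso g := (Triangle.isZero₁_iff_isIso₂ _ hT).1 hM
  exact Orth.of_iso (asIso g).symm (orth_rpush_opens T _)

section Compactification

variable {Xbar : Scheme.{u}} (j : X ⟶ Xbar) [IsOpenImmersion j] [DCoh.HasRpush j]

/-- **`RΓ_Z G` is pushed forward from `X` when `Z` is contained in `X`** -/
theorem isIso_unit_rgamma (W : Xbar.Opens) (hW : (W : Set Xbar)ᶜ ⊆ Set.range j.base)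
    [CxOX.HasRgammaZ W.ι] (adj : DCoh.restrictD j ⊣ DCoh.Rpush j) (G : DCoh.D Xbar) :
    IsIso (adj.unit.app ((CxOX.RgammaZ W.ι).obj G)) := by
  apply isIso_unit_of_orth j adj
  intro N hN φ
  have hcover : j.opensRange ⊔ W = ⊤ := by
    ext x
    simp only [Opens.coe_sup, Scheme.Hom.coe_opensRange, Set.mem_union, Opens.coe_top,
      Set.mem_univ, iff_true]
    by_cases hx : x ∈ (W : Set Xbar)
    · exact Or.inr hx
    · exact Or.inl (hW hx)
  refine hom_eq_zero_of_cover j.opensRange W hcover N _ ?_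
    (vanishOn_shift (vanishOn_rgamma W G) 1) φ
  rw [Scheme.Hom.coe_opensRange]
  exact hN

/-- **S14366** -/
theorem compactification_main (U : X.Opens) (U' T : Xbar.Opens)
    (hU' : (U' : Set Xbar) = (closure (j.base '' ((U : Set X)ᶜ)))ᶜ)
    (hT : (T : Set Xbar) = (U' : Set Xbar) ∪ Set.range j.base)
    [CxOX.HasRgammaZ T.ι] (adj : DCoh.restrictD j ⊣ DCoh.Rpush j) :
    (∀ F : DCoh.D X, DCoh.IsQCohD F → CxOX.IsSuppD U.ι F →
      CxOX.IsSuppD U'.ι ((DCoh.Rpush j).obj F) ∧
        IsZero ((CxOX.RgammaZ T.ι).obj ((DCoh.Rpush j).obj F))) ∧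
    (∀ F : DCoh.D X, IsIso (adj.counit.app F)) ∧
    (∀ G : DCoh.D Xbar, DCoh.IsQCohD G → CxOX.IsSuppD U'.ι G →
      IsZero ((CxOX.RgammaZ T.ι).obj G) →
        IsIso (adj.unit.app G) ∧ DCoh.IsQCohD ((DCoh.restrictD j).obj G) ∧
          CxOX.IsSuppD U.ι ((DCoh.restrictD j).obj G)) := by
  have hjT : Set.range j.base ⊆ (T : Set Xbar) := by
    rw [hT]
    exact Set.subset_union_right
  have hpre : ∀ x : X, j.base x ∈ (U' : Set Xbar) → x ∈ (U : Set X) := by
    intro x hx
    rw [hU'] at hx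
    by_contra hxU
    exact hx (subset_closure ⟨x, hxU, rfl⟩)
  have himg : ∀ x : X, x ∈ (U : Set X) → j.base x ∈ (U' : Set Xbar) := by
    intro x hx
    rw [hU']
    intro hcl
    have hopen : IsOpen (j.base '' (U : Set X)) := j.isOpenEmbedding.isOpenMap _ U.isOpen
    obtain ⟨y, hy1, hy2⟩ := mem_closure_iff.1 hcl _ hopen ⟨x, hx, rfl⟩
    obtain ⟨x1, hx1, rfl⟩ := hy1
    obtain ⟨x2, hx2, h12⟩ := hy2
    have : x1 = x2 := (j.isOpenEmbedding.injective h12.symm)
    exact hx2 (this ▸ hx1)
  refine ⟨fun F hF hFU => ⟨?_, ?_⟩, fun F => ?_, fun G hG hGU' hGT => ⟨?_, ?_, ?_⟩⟩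
  · -- `Rj_* F` vanishes on `U'`
    rw [isSuppD_iff_vanishOn, range_opens_ι] at hFU ⊢
    rw [← isZero_restrictD_iff_vanishOn]
    haveI : DCoh.HasRpush (j ∣_ U') := hasRightDerivedFunctor (DCoh.pushKh (j ∣_ U'))
    have e := (rpushRestrictIso j U').app F
    have hz : IsZero ((DCoh.restrictD (j ⁻¹ᵁ U').ι).obj F) := by
      rw [isZero_restrictD_iff_vanishOn]
      exact hFU.mono (fun x hx => hpre x hx)
    haveI := additive_rpush (j ∣_ U')
    exact IsZero.of_iso ((DCoh.Rpush (j ∣_ U')).map_isZero hz) e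
  · -- `RΓ` of `Rj_* F` vanishes
    apply isZero_rgamma_of_orth
    intro N hN φ
    exact orth_rpush j F N (hN.mono hjT) φ
  · haveI := isIso_counit_of_adj' j adj
    infer_instance
  · -- the unit is an isomorphism
    rw [isSuppD_iff_vanishOn, range_opens_ι] at hGU'
    apply isIso_unit_of_orth j adj
    apply Orth.shift_one (S := fun N : DCoh.D Xbar => VanishOn N (Set.range j.base))
      (fun N hN => vanishOn_shift hN (-1))
    intro N hN φ
    haveI : DCoh.HasRpush T.ι := hasRightDerivedFunctor (DCoh.pushKh T.ι)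
    obtain ⟨g, δ, hTr⟩ := exists_triangle T G
    haveI : IsIso g := (Triangle.isZero₁_iff_isIso₂ _ hTr).1 hGT
    have hsub : Subsingleton ((DCoh.restrictD T.ι).obj N ⟶ (DCoh.restrictD T.ι).obj G) := by
      refine ⟨fun a b => ?_⟩
      have hcover : (T.ι ⁻¹ᵁ j.opensRange) ⊔ (T.ι ⁻¹ᵁ U') = ⊤ := by
        ext x
        simp only [Opens.coe_sup, Opens.map_coe, Scheme.Hom.coe_opensRange, Set.mem_union,
          Set.mem_preimage, Opens.coe_top, Set.mem_univ, iff_true]
        have hx : T.ι.base x ∈ (T : Set Xbar) := by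
          simp
        rw [hT] at hx
        exact hx.symm
      have key : ∀ c : (DCoh.restrictD T.ι).obj N ⟶ (DCoh.restrictD T.ι).obj G, c = 0 := by
        intro c
        refine hom_eq_zero_of_cover _ _ hcover _ _ ?_ ?_ c
        · rw [vanishOn_restrictD_iff]
          refine hN.mono ?_
          rintro _ ⟨y, hy, rfl⟩
          simpa using hy
        · rw [vanishOn_restrictD_iff]
          refine hGU'.mono ?_
          rintro _ ⟨y, hy, rfl⟩
          exact hy
      rw [key a, key b]
    have hsub2 : Subsingleton (N ⟶ (DCoh.Rpush T.ι).obj ((DCoh.restrictD T.ι).obj G)) :=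
      ((resAdj T.ι).homEquiv N _).subsingleton_congr.1 hsub
    have h1 : φ ≫ g = 0 := Subsingleton.elim _ _
    have h2 : φ = (φ ≫ g) ≫ inv g := by simp
    rw [h2, h1, zero_comp]
  · exact isQCohD_restrictJ j G hG
  · rw [isSuppD_iff_vanishOn, range_opens_ι] at hGU' ⊢
    rw [vanishOn_restrictD_iff]
    refine hGU'.mono ?_
    rintro _ ⟨x, hx, rfl⟩
    exact himg x hx

end Compactification

end Groth.Agent.Lib.Helper5.CxTri
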