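import Mathlib
import Groth.Prelude.Def_Dual3
import Groth.Agent.Lib.Helper5.CxOX.Main

/-!
# `Rf_*` is left adjoint to `RΓ_{Z'} f^!` on objects with supports (helper5)

The chain of bijections behind S17639.
-/
set_option autoImplicit false
set_option linter.unusedSectionVars false
set_option linter.unusedVariables false
universe u
open CategoryTheory CategoryTheory.Limits AlgebraicGeometry Pretriangulated TopologicalSpace
open scoped ZeroObject
attribute [local instance] HasDerivedCategory.standard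

namespace Groth.Agent.Lib.Helper5.SuppAdj

open Groth.Agent.Lib.Helper5.CxTri Groth.Agent.Lib.Helper5.MV Groth.Agent.Lib.Helper5.QC
  Groth.Agent.Helper3.KInjDer Groth.Agent.Lib.Helper5.GammaZ Groth.Agent.Lib.Helper5.BvdB
  Groth.Agent.Lib.Helper5.MVShriek Groth.Agent.Lib.Helper5.RpushRes Groth.Agent.Lib.Helper5.HomVanish

section General

variable {C : Type*} [Category C] [HasZeroObject C] [HasShift C ℤ] [Preadditive C]
  [∀ n : ℤ, (shiftFunctor C n).Additive] [Pretriangulated C]

/-- in a distinguished triangle `X₁ ⟶ X₂ ⟶ X₃`, composition with the first map is bijective on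
maps out of an object having no maps to `X₃` and `X₃[-1]` -/
theorem bijective_comp_of_triangle (T : Triangle C) (hT : T ∈ distTriang C) (A : C)
    (h3 : ∀ φ : A ⟶ T.obj₃, φ = 0) (h3' : ∀ φ : A ⟶ T.obj₃⟦(-1 : ℤ)⟧, φ = 0) :
    Function.Bijective (fun φ : A ⟶ T.obj₁ => φ ≫ T.mor₁) := by
  constructor
  · intro φ φ' h
    have h0 : (φ - φ') ≫ T.mor₁ = 0 := by
      rw [Preadditive.sub_comp]
      exact sub_eq_zero.2 h
    obtain ⟨w, hw⟩ := Triangle.coyoneda_exact₂ _ (inv_rot_of_distTriang _ hT) (φ - φ') h0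
    have hw0 : w = 0 := h3' w
    have hw' : φ - φ' = 0 := by
      rw [hw, hw0]
      exact zero_comp
    exact sub_eq_zero.1 hw'
  · intro ψ
    obtain ⟨φ, hφ⟩ := Triangle.coyoneda_exact₂ _ hT ψ (h3 _)
    exact ⟨φ, hφ.symm⟩

end General

variable {X : Scheme.{u}}

/-- **maps from an object supported in `Z` into `RΓ_Z M` are the maps into `M`** -/
theorem bijective_comp_rgammaToId (T : X.Opens) [CxOX.HasRgammaZ T.ι] (F M : DCoh.D X)
    (hF : VanishOn F (T : Set X)) :
    Function.Bijective (fun φ : F ⟶ (CxOX.RgammaZ T.ι).obj M =>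
      φ ≫ (CxOX.RgammaZToId T.ι).app M) := by
  haveI : DCoh.HasRpush T.ι := hasRightDerivedFunctor (DCoh.pushKh T.ι)
  obtain ⟨g, δ, hT⟩ := exists_triangle T M
  exact bijective_comp_of_triangle _ hT F
    (fun φ => orth_rpush_opens T _ F hF φ)
    (fun φ => (Orth.shift_neg_one (S := fun N : DCoh.D X => VanishOn N (T : Set X))
      (fun N hN => vanishOn_shift hN 1) (orth_rpush_opens T _)) F hF φ)

variable {Xbar : Scheme.{u}} (j : X ⟶ Xbar) [IsOpenImmersion j] [DCoh.HasRpush j]

/-- maps out of an object supported inside `j(X)` into `K` are the maps into `Rj_* j^* K` -/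
theorem bijective_comp_unit (adj : DCoh.restrictD j ⊣ DCoh.Rpush j) (W : Xbar.Opens)
    (hW : (W : Set Xbar)ᶜ ⊆ Set.range j.base) (A K : DCoh.D Xbar)
    (hA : VanishOn A (W : Set Xbar)) :
    Function.Bijective (fun χ : A ⟶ K => χ ≫ adj.unit.app K) := by
  obtain ⟨C, π, δ, hT⟩ := distinguished_cocone_triangle (adj.unit.app K)
  haveI : IsIso adj.counit := isIso_counit_of_adj' j adj
  haveI : IsIso ((DCoh.restrictD j).map (adj.unit.app K)) := by
    have h := adj.left_triangle_components K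
    haveI : IsIso (adj.counit.app ((DCoh.restrictD j).obj K)) := inferInstance
    have h2 : (DCoh.restrictD j).map (adj.unit.app K) =
        inv (adj.counit.app ((DCoh.restrictD j).obj K)) := IsIso.eq_inv_of_inv_hom_id h
    rw [h2]
    infer_instance
  have hT' := (DCoh.restrictD j).map_distinguished _ hT
  have hz : IsZero ((DCoh.restrictD j).obj C) :=
    (Triangle.isZero₃_iff_isIso₁ _ hT').2 (by
      change IsIso ((DCoh.restrictD j).map (adj.unit.app K))
      infer_instance)
  have hC : VanishOn C (Set.range j.base) := by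
    have h1 : VanishOn ((DCoh.restrictD j).obj C) Set.univ := vanishOn_of_isZero hz _
    rw [vanishOn_restrictD_iff] at h1
    simpa using h1
  have hcover : W ⊔ j.opensRange = ⊤ := by
    ext x
    simp only [Opens.coe_sup, Scheme.Hom.coe_opensRange, Set.mem_union, Opens.coe_top,
      Set.mem_univ, iff_true]
    by_cases hx : x ∈ (W : Set Xbar)
    · exact Or.inl hx
    · exact Or.inr (hW hx)
  refine bijective_comp_of_triangle _ hT A (fun φ => ?_) (fun φ => ?_)
  · refine hom_eq_zero_of_cover W j.opensRange hcover A C hA ?_ φ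
    rw [Scheme.Hom.coe_opensRange]
    exact hC
  · refine hom_eq_zero_of_cover W j.opensRange hcover A _ hA ?_ φ
    rw [Scheme.Hom.coe_opensRange]
    exact vanishOn_shift hC (-1)

/-- `Rj_* F` vanishes on `W` when `F` vanishes on `j⁻¹ W` -/
theorem vanishOn_rpush (W : Xbar.Opens) (F : DCoh.D X)
    (hF : VanishOn F ((j ⁻¹ᵁ W : X.Opens) : Set X)) :
    VanishOn ((DCoh.Rpush j).obj F) (W : Set Xbar) := by
  rw [← isZero_restrictD_iff_vanishOn]
  haveI : DCoh.HasRpush (j ∣_ W) := hasRightDerivedFunctor (DCoh.pushKh (j ∣_ W))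
  have e := (rpushRestrictIso j W).app F
  have hz : IsZero ((DCoh.restrictD (j ⁻¹ᵁ W).ι).obj F) := by
    rw [isZero_restrictD_iff_vanishOn]
    exact hF
  haveI := additive_rpush (j ∣_ W)
  exact IsZero.of_iso ((DCoh.Rpush (j ∣_ W)).map_isZero hz) e

/-- `Rj_*` is fully faithful -/
theorem bijective_rpush_map (adj : DCoh.restrictD j ⊣ DCoh.Rpush j) (F M : DCoh.D X) :
    Function.Bijective (fun ψ : F ⟶ M => (DCoh.Rpush j).map ψ) := by
  haveI : IsIso adj.counit := isIso_counit_of_adj' j adj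
  let ff := adj.fullyFaithfulROfIsIsoCounit
  exact ff.map_bijective F M

/-- **the key bijection**: maps `F ⟶ RΓ_{Z'}(j^* K)` correspond to maps `Rj_* F ⟶ K` -/
theorem bijective_chi (adj : DCoh.restrictD j ⊣ DCoh.Rpush j) (W : Xbar.Opens)
    (hW : (W : Set Xbar)ᶜ ⊆ Set.range j.base)
    [CxOX.HasRgammaZ W.ι] [CxOX.HasRgammaZ (j ⁻¹ᵁ W).ι] (K : DCoh.D Xbar)
    (θ : (CxOX.RgammaZ (j ⁻¹ᵁ W).ι).obj ((DCoh.restrictD j).obj K) ⟶
      (DCoh.restrictD j).obj ((CxOX.RgammaZ W.ι).obj K))
    (hθ : θ ≫ (DCoh.restrictD j).map ((CxOX.RgammaZToId W.ι).app K) =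
      (CxOX.RgammaZToId (j ⁻¹ᵁ W).ι).app ((DCoh.restrictD j).obj K))
    [IsIso (adj.unit.app ((CxOX.RgammaZ W.ι).obj K))]
    (F : DCoh.D X) (hF : VanishOn F ((j ⁻¹ᵁ W : X.Opens) : Set X)) :
    Function.Bijective (fun φ : F ⟶ (CxOX.RgammaZ (j ⁻¹ᵁ W).ι).obj ((DCoh.restrictD j).obj K) =>
      (DCoh.Rpush j).map (φ ≫ θ) ≫ inv (adj.unit.app ((CxOX.RgammaZ W.ι).obj K)) ≫
        (CxOX.RgammaZToId W.ι).app K) := by
  have h1 := bijective_comp_unit j adj W hW ((DCoh.Rpush j).obj F) K (vanishOn_rpush j W F hF)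
  have h2 : Function.Bijective
      (fun φ : F ⟶ (CxOX.RgammaZ (j ⁻¹ᵁ W).ι).obj ((DCoh.restrictD j).obj K) =>
        (DCoh.Rpush j).map (φ ≫ (CxOX.RgammaZToId (j ⁻¹ᵁ W).ι).app ((DCoh.restrictD j).obj K))) :=
    (bijective_rpush_map j adj F _).comp
      (bijective_comp_rgammaToId (j ⁻¹ᵁ W) F ((DCoh.restrictD j).obj K) hF)
  refine (Function.Bijective.of_comp_iff' h1 _).1 ?_
  convert h2 using 1
  funext φ
  have hnat := adj.unit.naturality ((CxOX.RgammaZToId W.ι).app K)
  simp only [Functor.id_obj, Functor.id_map, Functor.comp_obj, Functor.comp_map] at hnat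
  simp only [Function.comp_apply, Category.assoc]
  rw [hnat, IsIso.inv_hom_id_assoc, ← CategoryTheory.Functor.map_comp, Category.assoc, hθ]

end Groth.Agent.Lib.Helper5.SuppAdj
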