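import Mathlib
import Groth.Agent.Lib.Helper5.CxOX.Main
import Groth.Agent.Lib.Helper5.Hoco.CoprodTri
import Groth.Agent.Lib.Helper5.BvdB.RpushCoprod

/-!
# `RΓ_Z` commutes with coproducts of objects of `D_QCoh` (helper5)
-/
set_option autoImplicit false
set_option linter.unusedSectionVars false
set_option linter.unusedVariables false
universe u
open CategoryTheory CategoryTheory.Limits AlgebraicGeometry Pretriangulated TopologicalSpace
open scoped ZeroObject
attribute [local instance] HasDerivedCategory.standard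

namespace Groth.Agent.Lib.Helper5.CxTri

open Groth.Agent.Lib.Helper5.MV Groth.Agent.Lib.Helper5.QC Groth.Agent.Helper3.KInjDer
  Groth.Agent.Lib.Helper5.GammaZ Groth.Agent.Lib.Helper5.BvdB Groth.Agent.Lib.Helper5.MVShriek
  Groth.Agent.Lib.Helper5.RpushRes Groth.Agent.Lib.Helper5.HomVanish
  Groth.Agent.Lib.Helper5.CoprodTri Helper5.Gen

variable {X : Scheme.{u}}

/-- **`RΓ_Z` commutes with coproducts of objects of `D_QCoh`**, for an open subscheme with
quasi-compact inclusion -/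
theorem isIso_sigma_rgamma (U : X.Opens) [QuasiCompact U.ι] [CxOX.HasRgammaZ U.ι] {ι : Type u}
    (E : ι → DCoh.D X) (hE : ∀ i, DCoh.IsQCohD (E i)) [HasCoproduct E]
    [HasCoproduct (fun i => (CxOX.RgammaZ U.ι).obj (E i))] :
    IsIso (Sigma.desc (fun i => (CxOX.RgammaZ U.ι).map (Sigma.ι E i))) := by
  classical
  haveI : DCoh.HasRpush U.ι := hasRightDerivedFunctor (DCoh.pushKh U.ι)
  have hex := fun i => exists_triangle U (E i)
  choose g δ hT using hex
  let P : ι → DCoh.D (U : Scheme.{u}) := fun i => (DCoh.restrictD U.ι).obj (E i)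
  let T : ι → Triangle (DCoh.D X) :=
    fun i => Triangle.mk ((CxOX.RgammaZToId U.ι).app (E i)) (g i) (δ i)
  haveI : HasCoproduct (fun i => (T i).obj₁) :=
    inferInstanceAs (HasCoproduct (fun i => (CxOX.RgammaZ U.ι).obj (E i)))
  haveI : HasCoproduct (fun i => (T i).obj₂) := inferInstanceAs (HasCoproduct E)
  haveI : HasCoproduct (fun i => (T i).obj₃) :=
    inferInstanceAs (HasCoproduct (fun i => (DCoh.Rpush U.ι).obj (P i)))
  obtain ⟨h', hT'⟩ := exists_coproduct_triangle T hT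
  let a' : (∐ fun i => (CxOX.RgammaZ U.ι).obj (E i)) ⟶ ∐ E :=
    Limits.Sigma.map fun i => (CxOX.RgammaZToId U.ι).app (E i)
  let g' : (∐ E) ⟶ ∐ fun i => (DCoh.Rpush U.ι).obj (P i) := Limits.Sigma.map g
  have hT'' : Triangle.mk a' g' h' ∈ distTriang (DCoh.D X) := hT'
  obtain ⟨g₀, δ₀, hT₀⟩ := exists_triangle U (∐ E)
  have hA := vanishOn_rgamma U (∐ E)
  -- the coproduct of the `RΓ_Z (E i)` vanishes on `U`
  have hA' : VanishOn (∐ fun i => (CxOX.RgammaZ U.ι).obj (E i)) (U : Set X) := by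
    rw [← isZero_restrictD_iff_vanishOn]
    obtain ⟨hc⟩ := presCoprod_restrictD U.ι ι _ _ _
      (coproductIsCoproduct (fun i => (CxOX.RgammaZ U.ι).obj (E i)))
    rw [IsZero.iff_id_eq_zero]
    refine Cofan.IsColimit.hom_ext hc _ _ (fun i => ?_)
    have hz : IsZero ((DCoh.restrictD U.ι).obj ((CxOX.RgammaZ U.ι).obj (E i))) :=
      (isZero_restrictD_iff_vanishOn U _).2 (vanishOn_rgamma U (E i))
    exact hz.eq_of_src _ _
  have hB := orth_rpush_opens U ((DCoh.restrictD U.ι).obj (∐ E))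
  -- the coproduct of the `Rj_* (E i|_U)` is pushed forward from `U`
  have hB' : Orth (fun N : DCoh.D X => VanishOn N (U : Set X))
      (∐ fun i => (DCoh.Rpush U.ι).obj (P i)) := by
    obtain ⟨hc⟩ := presCoprodRel_rpush U.ι ι P (∐ P) (Sigma.ι P) (coproductIsCoproduct P)
      (fun i => isQCohD_restrictJ U.ι (E i) (hE i))
    exact Orth.of_iso
      (hc.coconePointUniqueUpToIso (coproductIsCoproduct fun i => (DCoh.Rpush U.ι).obj (P i)))
      (orth_rpush_opens U (∐ P))
  refine isIso_of_coreflections (S := fun N : DCoh.D X => VanishOn N (U : Set X))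
    (fun N hN => vanishOn_shift hN 1) _ g₀ δ₀ hT₀ a' g' h' hT'' hA hA' hB hB' _ ?_
  apply Sigma.hom_ext
  intro i
  rw [← Category.assoc, Sigma.ι_desc, (CxOX.RgammaZToId U.ι).naturality (Sigma.ι E i)]
  change _ = Sigma.ι (fun i => (CxOX.RgammaZ U.ι).obj (E i)) i ≫
    Limits.Sigma.map fun i => (CxOX.RgammaZToId U.ι).app (E i)
  rw [Sigma.ι_map]
  rfl

end Groth.Agent.Lib.Helper5.CxTri
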