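import Mathlib
import Groth.Agent.Lib.Helper5.CxOX.Coprod

/-!
# `RΓ_Z` for a general open immersion, via the inclusion of its range (helper5)
-/
set_option autoImplicit false
set_option linter.unusedSectionVars false
set_option linter.unusedVariables false
universe u
open CategoryTheory CategoryTheory.Limits AlgebraicGeometry Pretriangulated TopologicalSpace
open scoped ZeroObject
attribute [local instance] HasDerivedCategory.standard

namespace Groth.Agent.Lib.Helper5.CxTri

open Groth.Agent.Lib.Helper5.MV Groth.Agent.Lib.Helper5.QC Groth.Agent.Helper3.KInjDer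
  Groth.Agent.Lib.Helper5.GammaZ Groth.Agent.Lib.Helper5.BvdB

section Abstract

variable {C D : Type*} [Category C] [Category D] [HasZeroMorphisms D]

lemma map_eq_zero_iff_of_natIso {F G : C ⥤ D} (e : F ≅ G) {A B : C} (p : A ⟶ B) :
    F.map p = 0 ↔ G.map p = 0 := by
  constructor
  · intro h
    have h1 : G.map p = e.inv.app A ≫ F.map p ≫ e.hom.app B := by simp
    rw [h1, h, zero_comp, comp_zero]
  · intro h
    have h1 : F.map p = e.hom.app A ≫ G.map p ≫ e.inv.app B := by simp
    rw [h1, h, zero_comp, comp_zero]

end Abstract

variable {U X : Scheme.{u}} (j : U ⟶ X) [IsOpenImmersion j]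

/-- a map dies under the unit of `j^* ⊣ j_*` iff its restriction vanishes -/
lemma comp_unit_eq_zero_iff {P M : X.Modules} (p : P ⟶ M) :
    p ≫ (Scheme.Modules.restrictAdjunction j).unit.app M = 0 ↔
      (Scheme.Modules.restrictFunctor j).map p = 0 := by
  let adj := Scheme.Modules.restrictAdjunction j
  constructor
  · intro h
    have h1 := adj.left_triangle_components M
    have h2 : (Scheme.Modules.restrictFunctor j).map p =
        (Scheme.Modules.restrictFunctor j).map (p ≫ adj.unit.app M) ≫
          adj.counit.app ((Scheme.Modules.restrictFunctor j).obj M) := by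
      rw [Functor.map_comp, Category.assoc, h1, Category.comp_id]
    rw [h2, h, Functor.map_zero, zero_comp]
  · intro h
    have h1 := adj.unit.naturality p
    have h2 : p ≫ adj.unit.app M = adj.unit.app P ≫
        (Scheme.Modules.pushforward j).map ((Scheme.Modules.restrictFunctor j).map p) := h1
    rw [h2, h, Functor.map_zero, comp_zero]

lemma restrict_map_eq_zero_congr {V : Scheme.{u}} {f f' : V ⟶ X} [IsOpenImmersion f]
    [IsOpenImmersion f'] (h : f = f') {P M : X.Modules} (p : P ⟶ M) :
    (Scheme.Modules.restrictFunctor f).map p = 0 ↔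
      (Scheme.Modules.restrictFunctor f').map p = 0 := by
  subst h
  rfl

/-- restriction along an isomorphism reflects vanishing of maps -/
lemma restrict_iso_map_eq_zero_iff {V W : Scheme.{u}} (φ : V ≅ W) {P M : W.Modules} (p : P ⟶ M) :
    (Scheme.Modules.restrictFunctor φ.hom).map p = 0 ↔ p = 0 := by
  constructor
  · intro h
    have h1 : (Scheme.Modules.restrictFunctor φ.inv).map
        ((Scheme.Modules.restrictFunctor φ.hom).map p) = 0 := by
      rw [h, Functor.map_zero]
    have h2 : (Scheme.Modules.restrictFunctor (φ.inv ≫ φ.hom)).map p = 0 :=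
      (map_eq_zero_iff_of_natIso
        (Scheme.Modules.restrictFunctorComp (f := φ.inv) (g := φ.hom)) p).2 h1
    have h3 : (Scheme.Modules.restrictFunctor (𝟙 W)).map p = 0 :=
      (restrict_map_eq_zero_congr (φ.inv_hom_id) p).1 h2
    exact (map_eq_zero_iff_of_natIso Scheme.Modules.restrictFunctorId p).1 h3
  · intro h
    rw [h, Functor.map_zero]

/-- restriction along `j` kills a map iff restriction along the inclusion of the range does -/
lemma restrict_map_eq_zero_iff_range {P M : X.Modules} (p : P ⟶ M) :
    (Scheme.Modules.restrictFunctor j).map p = 0 ↔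
      (Scheme.Modules.restrictFunctor j.opensRange.ι).map p = 0 := by
  have h1 := restrict_map_eq_zero_congr (j.isoOpensRange_hom_ι).symm p
  rw [h1]
  rw [map_eq_zero_iff_of_natIso
    (Scheme.Modules.restrictFunctorComp (f := j.isoOpensRange.hom) (g := j.opensRange.ι)) p]
  exact restrict_iso_map_eq_zero_iff j.isoOpensRange _

/-- sections with support, for `j` and for the inclusion of its range -/
noncomputable def gammaZIso : DCoh.gammaZ j ≅ DCoh.gammaZ j.opensRange.ι :=
  NatIso.ofComponents (fun M =>
    { hom := kernel.lift _ (kernel.ι ((Scheme.Modules.restrictAdjunction j).unit.app M))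
        ((comp_unit_eq_zero_iff j.opensRange.ι _).2 ((restrict_map_eq_zero_iff_range j _).1
          ((comp_unit_eq_zero_iff j _).1 (kernel.condition _))))
      inv := kernel.lift _
        (kernel.ι ((Scheme.Modules.restrictAdjunction j.opensRange.ι).unit.app M))
        ((comp_unit_eq_zero_iff j _).2 ((restrict_map_eq_zero_iff_range j _).2
          ((comp_unit_eq_zero_iff j.opensRange.ι _).1 (kernel.condition _))))
      hom_inv_id := by
        apply equalizer.hom_ext
        simp [DCoh.gammaZ]
      inv_hom_id := by
        apply equalizer.hom_ext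
        simp [DCoh.gammaZ] })
    (by
      intro M N φ
      apply equalizer.hom_ext
      simp [DCoh.gammaZ])

/-- natural isomorphisms induce natural isomorphisms on homotopy categories -/
noncomputable def mapHomotopyCategoryIso {V W : Type*} [Category V] [Preadditive V] [Category W]
    [Preadditive W] {ι : Type*} (c : ComplexShape ι) {F G : V ⥤ W} [F.Additive] [G.Additive]
    (e : F ≅ G) : F.mapHomotopyCategory c ≅ G.mapHomotopyCategory c where
  hom := NatTrans.mapHomotopyCategory e.hom c
  inv := NatTrans.mapHomotopyCategory e.inv c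
  hom_inv_id := by
    rw [← NatTrans.mapHomotopyCategory_comp, e.hom_inv_id, NatTrans.mapHomotopyCategory_id]
  inv_hom_id := by
    rw [← NatTrans.mapHomotopyCategory_comp, e.inv_hom_id, NatTrans.mapHomotopyCategory_id]

section Derived

variable [CxOX.HasRgammaZ j] [CxOX.HasRgammaZ j.opensRange.ι]

/-- `RΓ_Z` for `j` and for the inclusion of its range -/
noncomputable def rgammaIso : CxOX.RgammaZ j ≅ CxOX.RgammaZ j.opensRange.ι :=
  Functor.rightDerivedNatIso _ _
    ((CxOX.gammaZKh j).totalRightDerivedUnit DerivedCategory.Qh
      (HomotopyCategory.quasiIso X.Modules (ComplexShape.up ℤ)))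
    ((CxOX.gammaZKh j.opensRange.ι).totalRightDerivedUnit DerivedCategory.Qh
      (HomotopyCategory.quasiIso X.Modules (ComplexShape.up ℤ)))
    (HomotopyCategory.quasiIso X.Modules (ComplexShape.up ℤ))
    (Functor.isoWhiskerRight (mapHomotopyCategoryIso (ComplexShape.up ℤ) (gammaZIso j))
      DerivedCategory.Qh)

end Derived

attribute [local instance] hasCoproductsOfShape_D

/-- **`RΓ_Z` commutes with coproducts of objects of `D_QCoh`**, for a quasi-compact open
immersion -/
theorem isIso_sigma_rgamma_general [QuasiCompact j] [CxOX.HasRgammaZ j] {ι : Type u}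
    (E : ι → DCoh.D X) (hE : ∀ i, DCoh.IsQCohD (E i)) [HasCoproduct E]
    [HasCoproduct (fun i => (CxOX.RgammaZ j).obj (E i))] :
    IsIso (Sigma.desc (fun i => (CxOX.RgammaZ j).map (Sigma.ι E i))) := by
  haveI : CxOX.HasRgammaZ j.opensRange.ι :=
    hasRightDerivedFunctor (CxOX.gammaZKh j.opensRange.ι)
  haveI : QuasiCompact j.opensRange.ι := by
    have h : j.isoOpensRange.inv ≫ j = j.opensRange.ι := by
      rw [Iso.inv_comp_eq, Scheme.Hom.isoOpensRange_hom_ι]
    rw [← h]
    infer_instance
  let θ := rgammaIso j
  haveI := isIso_sigma_rgamma j.opensRange E hE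
  have h : Sigma.desc (fun i => (CxOX.RgammaZ j).map (Sigma.ι E i)) =
      (Limits.Sigma.mapIso (fun i => θ.app (E i))).hom ≫
        Sigma.desc (fun i => (CxOX.RgammaZ j.opensRange.ι).map (Sigma.ι E i)) ≫
          θ.inv.app (∐ E) := by
    apply Sigma.hom_ext
    intro i
    simp
  rw [h]
  infer_instance

end Groth.Agent.Lib.Helper5.CxTri
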