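import Mathlib
import Groth.Agent.Lib.Helper5.CxOX.Main
import Groth.Agent.Lib.Helper5.Stalk.LpullComp
import Groth.Agent.Lib.Helper5.Stalk.LpullAdj
import Groth.Agent.Lib.Helper5.Perf.HomVanishMV

/-!
# `Rf_*` commutes with `RΓ_Z` (helper5)
-/
set_option autoImplicit false
set_option linter.unusedSectionVars false
set_option linter.unusedVariables false
universe u
open CategoryTheory CategoryTheory.Limits AlgebraicGeometry Pretriangulated TopologicalSpace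
open scoped ZeroObject
attribute [local instance] HasDerivedCategory.standard

namespace Groth.Agent.Lib.Helper5.CxTri

open Groth.Agent.Lib.Helper5.MV Groth.Agent.Lib.Helper5.QC Groth.Agent.Helper3.KInjDer
  Groth.Agent.Lib.Helper5.GammaZ Groth.Agent.Lib.Helper5.BvdB Groth.Agent.Lib.Helper5.MVShriek
  Groth.Agent.Lib.Helper5.RpushRes Groth.Agent.Lib.Helper5.HomVanish
  Groth.Agent.Lib.Helper5.LpullLib

variable {X Y : Scheme.{u}} (f : X ⟶ Y)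

/-- derived pullbacks along equal morphisms -/
theorem nonempty_lpull_congr {g g' : X ⟶ Y} (h : g = g') [DCoh.HasLpull g] [DCoh.HasLpull g']
    (N : DCoh.D Y) : Nonempty ((DCoh.Lpull g).obj N ≅ (DCoh.Lpull g').obj N) := by
  subst h
  exact ⟨Iso.refl _⟩

/-- **the derived pullback of an object vanishing on `U` vanishes on `f⁻¹ U`** -/
theorem vanishOn_lpull [DCoh.HasLpull f] (U : Y.Opens) (N : DCoh.D Y)
    (hN : VanishOn N (U : Set Y)) :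
    VanishOn ((DCoh.Lpull f).obj N) ((f ⁻¹ᵁ U : X.Opens) : Set X) := by
  rw [← isZero_restrictD_iff_vanishOn] at hN ⊢
  haveI : DCoh.HasLpull (f ⁻¹ᵁ U).ι := hasLpull _
  haveI : DCoh.HasLpull U.ι := hasLpull _
  haveI : DCoh.HasLpull (f ∣_ U) := hasLpull _
  haveI : DCoh.HasLpull ((f ⁻¹ᵁ U).ι ≫ f) := hasLpull _
  haveI : DCoh.HasLpull ((f ∣_ U) ≫ U.ι) := hasLpull _
  haveI : DCoh.HasRpush (f ∣_ U) := hasRightDerivedFunctor (DCoh.pushKh (f ∣_ U))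
  obtain ⟨e1⟩ := nonempty_lpull_iso_restrictD (f ⁻¹ᵁ U) ((DCoh.Lpull f).obj N)
  obtain ⟨e2⟩ := lpull_comp (f ⁻¹ᵁ U).ι f
  obtain ⟨e3⟩ := nonempty_lpull_congr (morphismRestrict_ι f U).symm N
  obtain ⟨e4⟩ := lpull_comp (f ∣_ U) U.ι
  obtain ⟨e5⟩ := nonempty_lpull_iso_restrictD U N
  haveI := additive_rpush (f ∣_ U)
  haveI : (DCoh.Lpull (f ∣_ U)).Additive := (lpullRpushAdj (f ∣_ U)).left_adjoint_additive
  have hz : IsZero ((DCoh.Lpull (f ∣_ U)).obj ((DCoh.Lpull U.ι).obj N)) :=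
    (DCoh.Lpull (f ∣_ U)).map_isZero (IsZero.of_iso hN e5)
  exact IsZero.of_iso hz (e1.symm ≪≫ e2.app N ≪≫ e3 ≪≫ (e4.app N).symm)

/-- objects of the form `Rf_* Rj_* B` are right orthogonal to objects vanishing on `U` -/
theorem orth_rpush_rpush [DCoh.HasRpush f] (U : Y.Opens) [DCoh.HasRpush (f ⁻¹ᵁ U).ι]
    (B : DCoh.D ((f ⁻¹ᵁ U : X.Opens) : Scheme.{u})) :
    Orth (fun N : DCoh.D Y => VanishOn N (U : Set Y))
      ((DCoh.Rpush f).obj ((DCoh.Rpush (f ⁻¹ᵁ U).ι).obj B)) := by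
  intro N hN φ
  haveI : DCoh.HasLpull f := hasLpull f
  have hsub : Subsingleton ((DCoh.Lpull f).obj N ⟶ (DCoh.Rpush (f ⁻¹ᵁ U).ι).obj B) :=
    ⟨fun a b => by
      rw [orth_rpush_opens (f ⁻¹ᵁ U) B _ (vanishOn_lpull f U N hN) a,
        orth_rpush_opens (f ⁻¹ᵁ U) B _ (vanishOn_lpull f U N hN) b]⟩
  have hsub2 : Subsingleton (N ⟶ (DCoh.Rpush f).obj ((DCoh.Rpush (f ⁻¹ᵁ U).ι).obj B)) :=
    ((lpullRpushAdj f).homEquiv N _).subsingleton_congr.1 hsub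
  exact Subsingleton.elim _ _

/-- **`Rf_*` commutes with `RΓ_Z`** -/
theorem rpush_rgamma_main [DCoh.HasRpush f] (U : Y.Opens) [CxOX.HasRgammaZ U.ι]
    [CxOX.HasRgammaZ (f ⁻¹ᵁ U).ι] (K : DCoh.D X) :
    (∃ α : (DCoh.Rpush f).obj ((CxOX.RgammaZ (f ⁻¹ᵁ U).ι).obj K) ⟶
        (CxOX.RgammaZ U.ι).obj ((DCoh.Rpush f).obj K),
      α ≫ (CxOX.RgammaZToId U.ι).app ((DCoh.Rpush f).obj K) =
        (DCoh.Rpush f).map ((CxOX.RgammaZToId (f ⁻¹ᵁ U).ι).app K)) ∧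
    ∀ α : (DCoh.Rpush f).obj ((CxOX.RgammaZ (f ⁻¹ᵁ U).ι).obj K) ⟶
        (CxOX.RgammaZ U.ι).obj ((DCoh.Rpush f).obj K),
      α ≫ (CxOX.RgammaZToId U.ι).app ((DCoh.Rpush f).obj K) =
        (DCoh.Rpush f).map ((CxOX.RgammaZToId (f ⁻¹ᵁ U).ι).app K) → IsIso α := by
  haveI : DCoh.HasRpush U.ι := hasRightDerivedFunctor (DCoh.pushKh U.ι)
  haveI : DCoh.HasRpush (f ⁻¹ᵁ U).ι := hasRightDerivedFunctor (DCoh.pushKh (f ⁻¹ᵁ U).ι)
  haveI : DCoh.HasRpush (f ∣_ U) := hasRightDerivedFunctor (DCoh.pushKh (f ∣_ U))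
  obtain ⟨g, δ, hT⟩ := exists_triangle U ((DCoh.Rpush f).obj K)
  obtain ⟨g₀, δ₀, hT₀⟩ := exists_triangle (f ⁻¹ᵁ U) K
  obtain ⟨δ', hT'⟩ := exists_distinguished_rpush f _ hT₀
  have hA := vanishOn_rgamma U ((DCoh.Rpush f).obj K)
  have hA' : VanishOn ((DCoh.Rpush f).obj ((CxOX.RgammaZ (f ⁻¹ᵁ U).ι).obj K)) (U : Set Y) := by
    rw [← isZero_restrictD_iff_vanishOn]
    have e := (rpushRestrictIso f U).app ((CxOX.RgammaZ (f ⁻¹ᵁ U).ι).obj K)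
    have hz : IsZero ((DCoh.restrictD (f ⁻¹ᵁ U).ι).obj ((CxOX.RgammaZ (f ⁻¹ᵁ U).ι).obj K)) := by
      rw [isZero_restrictD_iff_vanishOn]
      exact vanishOn_rgamma (f ⁻¹ᵁ U) K
    haveI := additive_rpush (f ∣_ U)
    exact IsZero.of_iso ((DCoh.Rpush (f ∣_ U)).map_isZero hz) e
  have hB := orth_rpush_opens U ((DCoh.restrictD U.ι).obj ((DCoh.Rpush f).obj K))
  have hB' := orth_rpush_rpush f U ((DCoh.restrictD (f ⁻¹ᵁ U).ι).obj K)
  refine ⟨exists_of_coreflections (S := fun N : DCoh.D Y => VanishOn N (U : Set Y))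
    _ g δ hT _ hA' hB, fun α hα => ?_⟩
  exact isIso_of_coreflections (S := fun N : DCoh.D Y => VanishOn N (U : Set Y))
    (fun N hN => vanishOn_shift hN 1) _ g δ hT _ _ δ' hT' hA hA' hB hB' α hα

end Groth.Agent.Lib.Helper5.CxTri
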