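import Mathlib
import Groth.Agent.Lib.Helper5.CxOX.PushComm
import Groth.Agent.Lib.Helper5.RHomQC.ResTen
import Groth.Agent.Lib.Helper5.ProjF3.Main3
import Groth.Agent.Lib.Helper5.QC.FpqcPC
import Groth.Agent.Lib.Helper5.RpushPerf.WTShift

/-!
# `- ⊗^L E` commutes with `RΓ_Z` on `D_QCoh` of a Noetherian scheme (helper5)
-/
set_option autoImplicit false
set_option linter.unusedSectionVars false
set_option linter.unusedVariables false
set_option linter.style.haveILetI false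
universe u
open CategoryTheory CategoryTheory.Limits AlgebraicGeometry Pretriangulated TopologicalSpace
open scoped ZeroObject
attribute [local instance] HasDerivedCategory.standard

namespace Groth.Agent.Lib.Helper5.CxTri

open Groth.Agent.Lib.Helper5.MV Groth.Agent.Lib.Helper5.QC Groth.Agent.Helper3.KInjDer
  Groth.Agent.Lib.Helper5.GammaZ Groth.Agent.Lib.Helper5.BvdB Groth.Agent.Lib.Helper5.MVShriek
  Groth.Agent.Lib.Helper5.RpushRes Groth.Agent.Lib.Helper5.HomVanish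
  Groth.Agent.Lib.Helper5.LpullLib Groth.Agent.Lib.Helper5.ProjF3
  Groth.Agent.Lib.Helper5.RpushPerf Groth.Agent.Lib.Helper5.ShriekProj

variable {X : Scheme.{u}}

/-- **`RΓ_Z(F) ⊗^L E ≅ RΓ_Z(F ⊗^L E)`**: existence of the comparison map and the fact that every
comparison map is an isomorphism -/
theorem ltensor_rgamma_main [IsNoetherian X] (U : X.Opens) [CxOX.HasRgammaZ U.ι]
    (F : DCoh.D X) (hF : DCoh.IsQCohD F) (E : CochainComplex X.Modules ℤ)
    (hE : DCoh.IsQCohD (DCoh.toD X E)) [DCoh.HasLTensorCx E] :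
    (∃ φ : (DCoh.LTensorCx E).obj ((CxOX.RgammaZ U.ι).obj F) ⟶
        (CxOX.RgammaZ U.ι).obj ((DCoh.LTensorCx E).obj F),
      φ ≫ (CxOX.RgammaZToId U.ι).app ((DCoh.LTensorCx E).obj F) =
        (DCoh.LTensorCx E).map ((CxOX.RgammaZToId U.ι).app F)) ∧
    ∀ φ : (DCoh.LTensorCx E).obj ((CxOX.RgammaZ U.ι).obj F) ⟶
        (CxOX.RgammaZ U.ι).obj ((DCoh.LTensorCx E).obj F),
      φ ≫ (CxOX.RgammaZToId U.ι).app ((DCoh.LTensorCx E).obj F) =
        (DCoh.LTensorCx E).map ((CxOX.RgammaZToId U.ι).app F) → IsIso φ := by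
  haveI : DCoh.HasRpush U.ι := hasRightDerivedFunctor (DCoh.pushKh U.ι)
  haveI : DCoh.HasLpull U.ι := hasLpull _
  haveI : DCoh.HasLTensorCx (KV U E) := Groth.Agent.Lib.Helper5.LTenAll.hasLTensorCx _
  obtain ⟨g, δ, hT⟩ := exists_triangle U ((DCoh.LTensorCx E).obj F)
  obtain ⟨g₀, δ₀, hT₀⟩ := exists_triangle U F
  obtain ⟨δ', hT'⟩ := weakTri_LTensorCx E _ hT₀
  have hA := vanishOn_rgamma U ((DCoh.LTensorCx E).obj F)
  have hA' : VanishOn ((DCoh.LTensorCx E).obj ((CxOX.RgammaZ U.ι).obj F)) (U : Set X) := by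
    rw [← isZero_restrictD_iff_vanishOn]
    have e := (Groth.Agent.Lib.Helper5.RHomQC.resTenIso U E).app ((CxOX.RgammaZ U.ι).obj F)
    have hz : IsZero ((DCoh.restrictD U.ι).obj ((CxOX.RgammaZ U.ι).obj F)) := by
      rw [isZero_restrictD_iff_vanishOn]
      exact vanishOn_rgamma U F
    exact IsZero.of_iso (weakTri_isZero_obj (weakTri_LTensorCx (KV U E)) _ hz) e
  have hB := orth_rpush_opens U ((DCoh.restrictD U.ι).obj ((DCoh.LTensorCx E).obj F))
  have hB' : Orth (fun N : DCoh.D X => VanishOn N (U : Set X))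
      ((DCoh.LTensorCx E).obj ((DCoh.Rpush U.ι).obj ((DCoh.restrictD U.ι).obj F))) := by
    obtain ⟨e1⟩ := Groth.Agent.Lib.Helper5.FpqcPC.nonempty_lpull_iso_restrictD U.ι (DCoh.toD X E)
    have e2 : DCoh.toD (U : Scheme.{u}) (KV U E) ≅ (DCoh.Lpull U.ι).obj (DCoh.toD X E) :=
      ((Scheme.Modules.restrictFunctor U.ι).mapDerivedCategoryFactors.app E).symm ≪≫ e1.symm
    obtain ⟨e3⟩ := nonempty_projFormula_qcoh U.ι ((DCoh.restrictD U.ι).obj F)
      (isQCohD_restrictD U F hF) E hE (KV U E) ⟨e2⟩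
    exact Orth.of_iso e3.symm (orth_rpush_opens U _)
  refine ⟨exists_of_coreflections (S := fun N : DCoh.D X => VanishOn N (U : Set X))
    _ g δ hT _ hA' hB, fun φ hφ => ?_⟩
  exact isIso_of_coreflections (S := fun N : DCoh.D X => VanishOn N (U : Set X))
    (fun N hN => vanishOn_shift hN 1) _ g δ hT _ _ δ' hT' hA hA' hB hB' φ hφ

end Groth.Agent.Lib.Helper5.CxTri
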